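import Cfsg.Agent.H26.Swap
import Cfsg.Agent.H12.TwoTr

/-! M. Hall's theorem on 4-transitive groups with odd four-point stabilisers, part 1:
involutions, four-groups and the regular normal subgroup of a two-point stabiliser. -/

set_option autoImplicit false

namespace Cfsg.Agent.LW

open MulAction Cfsg.Agent.H26

/-- A faithful `k`-transitive action in which every element fixing `k` points has odd order. -/
structure Hk (G Ω : Type*) [Group G] [MulAction G Ω] (k : ℕ) : Prop where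
  faith : ∀ g : G, (∀ c : Ω, g • c = c) → g = 1
  tr : IsMultiplyPretransitive G Ω k
  odd : ∀ g : G, k ≤ (fixedBy Ω g).ncard → Odd (orderOf g)

variable {G Ω : Type*} [Group G] [MulAction G Ω]

theorem odd_pow_smul {g : G} {x : Ω} (h : g • g • x = x) {j : ℕ} (hj : Odd j) :
    g ^ j • x = g • x :=
  odd_pow_smul_of_swap rfl h hj

theorem four_le_ncard [Finite Ω] {S : Set Ω} {a b c d : Ω} (hab : a ≠ b) (hac : a ≠ c)
    (had : a ≠ d) (hbc : b ≠ c) (hbd : b ≠ d) (hcd : c ≠ d) (ha : a ∈ S) (hb : b ∈ S) (hc : c ∈ S)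
    (hd : d ∈ S) : 4 ≤ S.ncard := by
  have h1 : ({a, b, c, d} : Set Ω).ncard = 4 := by
    rw [Set.ncard_insert_of_notMem (by simp [hab, hac, had]),
      Set.ncard_insert_of_notMem (by simp [hbc, hbd]), Set.ncard_pair hcd]
  rw [← h1]
  exact Set.ncard_le_ncard (by
    intro x hx
    simp only [Set.mem_insert_iff, Set.mem_singleton_iff] at hx
    rcases hx with rfl | rfl | rfl | rfl <;> assumption)

theorem exists_not_mem_of_lt [Finite Ω] {S : Set Ω} (h : S.ncard < Nat.card Ω) : ∃ x, x ∉ S := by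
  by_contra! hc
  rw [Set.eq_univ_of_forall hc, Set.ncard_univ] at h
  exact lt_irrefl _ h

theorem ncard_fix_mod [Finite Ω] {t : G} (ht : t * t = 1) :
    (fixedBy Ω t).ncard % 2 = Nat.card Ω % 2 := by
  have := card_fixedBy_modEq (α := Ω) (p := 2) (k := 1) Nat.prime_two (g := t)
    (by rw [pow_one, sq, ht])
  rw [Nat.card_coe_set_eq] at this
  exact this.symm

/-- An involution fixes a point of every invariant set of odd size. -/
theorem exists_fix_of_odd [Finite Ω] {t : G} (ht : t * t = 1) (X : Set Ω)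
    (hX : ∀ x ∈ X, t • x ∈ X) (ho : X.ncard % 2 = 1) : ∃ x ∈ X, t • x = x := by
  let X' : SubMulAction (Subgroup.zpowers t) Ω :=
    { carrier := X
      smul_mem' := by
        rintro ⟨_, n, rfl⟩ x hx
        change t ^ n • x ∈ X
        rcases Int.even_or_odd' n with ⟨m, rfl | rfl⟩
        · rw [zpow_mul, zpow_two, ht, one_zpow, one_smul]; exact hx
        · rw [zpow_add, zpow_mul, zpow_two, ht, one_zpow, one_mul, zpow_one]; exact hX x hx }
  have h1 := ncard_fix_mod (Ω := X') (t := (⟨t, Subgroup.mem_zpowers t⟩ : Subgroup.zpowers t))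
    (Subtype.ext ht)
  have h2 : Nat.card X' = X.ncard := Nat.card_coe_set_eq X
  rw [h2, ho] at h1
  obtain ⟨x, hx⟩ := Set.nonempty_of_ncard_ne_zero
    (s := fixedBy X' (⟨t, Subgroup.mem_zpowers t⟩ : Subgroup.zpowers t)) (by omega)
  exact ⟨x.1, x.2, congrArg Subtype.val hx⟩

theorem Hk.invol {k : ℕ} [Finite G] (h : Hk G Ω k) (g : G) (hg : k ≤ (fixedBy Ω (g * g)).ncard) :
    ∃ t : G, t * t = 1 ∧ ∀ x : Ω, g • g • x = x → t • x = g • x := by
  obtain ⟨j, hj, h1⟩ := exists_odd_pow_sq (h.odd _ hg)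
  exact ⟨g ^ j, h1, fun x hx => odd_pow_smul hx hj⟩

theorem Hk.fix_lt {k : ℕ} (h : Hk G Ω k) {t : G} (ht : t * t = 1) (h1 : t ≠ 1) :
    (fixedBy Ω t).ncard < k := by
  by_contra! hc
  have h2 := h.odd t hc
  have h3 : orderOf t = 2 := orderOf_eq_prime (by rw [sq, ht]) h1
  rw [h3] at h2
  exact absurd h2 (by decide)

section four

variable [Finite G] [Finite Ω] (h : Hk G Ω 4)
include h

theorem Hk.invol4 {a b c d a' b' c' d' : Ω} (hab : a ≠ b)
    (hac : a ≠ c) (had : a ≠ d) (hbc : b ≠ c) (hbd : b ≠ d) (hcd : c ≠ d) (hab' : a' ≠ b')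
    (hac' : a' ≠ c') (had' : a' ≠ d') (hbc' : b' ≠ c') (hbd' : b' ≠ d') (hcd' : c' ≠ d')
    (hi : ∀ g : G, g • a = a' → g • b = b' → g • c = c' → g • d = d' →
      g • a' = a ∧ g • b' = b ∧ g • c' = c ∧ g • d' = d) :
    ∃ t : G, t * t = 1 ∧ t • a = a' ∧ t • b = b' ∧ t • c = c' ∧ t • d = d' := by
  obtain ⟨g, h1, h2, h3, h4⟩ := mt4 h.tr hab hac had hbc hbd hcd hab' hac' had' hbc' hbd' hcd'
  obtain ⟨k1, k2, k3, k4⟩ := hi g h1 h2 h3 h4
  obtain ⟨t, ht, ht'⟩ := h.invol g (four_le_ncard hab hac had hbc hbd hcd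
    (by rw [mem_fixedBy, mul_smul, h1, k1]) (by rw [mem_fixedBy, mul_smul, h2, k2])
    (by rw [mem_fixedBy, mul_smul, h3, k3]) (by rw [mem_fixedBy, mul_smul, h4, k4]))
  exact ⟨t, ht, by rw [ht' a (by rw [h1, k1]), h1], by rw [ht' b (by rw [h2, k2]), h2],
    by rw [ht' c (by rw [h3, k3]), h3], by rw [ht' d (by rw [h4, k4]), h4]⟩

/-- The four-group inducing `⟨(x y), (p q)⟩`. -/
theorem Hk.exists_V {p q x y : Ω} (hpq : p ≠ q) (hpx : p ≠ x) (hpy : p ≠ y) (hqx : q ≠ x)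
    (hqy : q ≠ y) (hxy : x ≠ y) :
    ∃ a b : G, a * a = 1 ∧ b * b = 1 ∧ a * b = b * a ∧ a • p = p ∧ a • q = q ∧ a • x = y ∧
      b • p = q ∧ b • q = p := by
  obtain ⟨s, hs, s1, s2, s3, s4⟩ := h.invol4 hpq hpx hpy hqx hqy hxy hpq.symm hqx hqy hpx hpy hxy
    (fun g h1 h2 h3 h4 => ⟨h2, h1, h3, h4⟩)
  obtain ⟨b, hb, b1, b2, b3, b4⟩ := h.invol4 hpq hpx hpy hqx hqy hxy hpq.symm hqy hqx hpy hpx
    hxy.symm (fun g h1 h2 h3 h4 => ⟨h2, h1, h4, h3⟩)
  have z1 : (s * b) • p = p := by rw [mul_smul, b1, s2]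
  have z2 : (s * b) • q = q := by rw [mul_smul, b2, s1]
  have z3 : (s * b) • x = y := by rw [mul_smul, b3, s4]
  have z4 : (s * b) • y = x := by rw [mul_smul, b4, s3]
  obtain ⟨j, hj, h1⟩ := exists_odd_pow_sq (h.odd (s * b * (s * b))
    (four_le_ncard hpq hpx hpy hqx hqy hxy
    (by rw [mem_fixedBy, mul_smul, z1, z1]) (by rw [mem_fixedBy, mul_smul, z2, z2])
    (by rw [mem_fixedBy, mul_smul, z3, z4]) (by rw [mem_fixedBy, mul_smul, z4, z3])))
  refine ⟨(s * b) ^ j, b, h1, hb, ?_, pow_smul_of_fix z1 j, pow_smul_of_fix z2 j,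
    odd_pow_smul_of_swap z3 z4 hj, b1, b2⟩
  have h2 := H42.conj_mul_pow' hs hb j
  rw [← eq_inv_of_mul_eq_one_left h1] at h2
  exact (mul_inv_eq_iff_eq_mul.1 h2).symm

omit [Finite G] in
/-- A four-group has a regular orbit when the degree is at least eight. -/
theorem Hk.exists_reg (hn : 8 ≤ Nat.card Ω) {s t : G} (hs : s * s = 1) (ht : t * t = 1)
    (hc : s * t = t * s) (s1 : s ≠ 1) (t1 : t ≠ 1) (st1 : s * t ≠ 1) :
    ∃ u : Ω, s • u ≠ u ∧ t • u ≠ u ∧ (s * t) • u ≠ u := by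
  have hst : s * t * (s * t) = 1 := by
    rw [mul_assoc, ← mul_assoc t, ← hc, mul_assoc, ht, mul_one, hs]
  have a1 := h.fix_lt hs s1
  have a2 := h.fix_lt ht t1
  have a3 := h.fix_lt hst st1
  have b1 := ncard_fix_mod (Ω := Ω) hs
  have b2 := ncard_fix_mod (Ω := Ω) ht
  have b3 := ncard_fix_mod (Ω := Ω) hst
  suffices hh : (fixedBy Ω s ∪ fixedBy Ω t ∪ fixedBy Ω (s * t)).ncard < Nat.card Ω by
    obtain ⟨u, hu⟩ := exists_not_mem_of_lt hh
    simp only [Set.mem_union, mem_fixedBy, not_or] at hu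
    exact ⟨u, hu.1.1, hu.1.2, hu.2⟩
  rcases Nat.mod_two_eq_zero_or_one (Nat.card Ω) with e | e
  · have c1 := Set.ncard_union_le (fixedBy Ω s ∪ fixedBy Ω t) (fixedBy Ω (s * t))
    have c2 := Set.ncard_union_le (fixedBy Ω s) (fixedBy Ω t)
    omega
  · obtain ⟨w, hw, hw'⟩ := exists_fix_of_odd ht (fixedBy Ω s) (fun x hx => by
      rw [mem_fixedBy] at hx ⊢
      rw [← mul_smul, hc, mul_smul, hx]) (by omega)
    have hw2 : w ∈ fixedBy Ω (s * t) := by rw [mem_fixedBy, mul_smul, hw', hw]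
    have c1 := Set.ncard_union_add_ncard_inter (fixedBy Ω s ∪ fixedBy Ω t) (fixedBy Ω (s * t))
    have c2 := Set.ncard_union_add_ncard_inter (fixedBy Ω s) (fixedBy Ω t)
    have d1 : 0 < ((fixedBy Ω s ∪ fixedBy Ω t) ∩ fixedBy Ω (s * t)).ncard :=
      (Set.ncard_pos).2 ⟨w, Or.inl hw, hw2⟩
    have d2 : 0 < (fixedBy Ω s ∩ fixedBy Ω t).ncard := (Set.ncard_pos).2 ⟨w, hw, hw'⟩
    omega

omit [Finite G] [Finite Ω] h in
theorem reg_ne {s t : G} (hs : s * s = 1) (hc : s * t = t * s) {u : Ω}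
    (h1 : s • u ≠ u) (h2 : t • u ≠ u) (h3 : (s * t) • u ≠ u) :
    u ≠ s • u ∧ u ≠ t • u ∧ u ≠ (s * t) • u ∧ s • u ≠ t • u ∧ s • u ≠ (s * t) • u ∧
      t • u ≠ (s * t) • u := by
  refine ⟨h1.symm, h2.symm, h3.symm, fun e => h3 ?_, fun e => h2 ?_, fun e => h1 ?_⟩
  · rw [mul_smul, ← e, ← mul_smul, hs, one_smul]
  · rw [mul_smul] at e
    exact (MulAction.injective s e).symm
  · rw [hc, mul_smul] at e
    exact (MulAction.injective t e).symm

omit [Finite G] in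
/-- Four-groups with a regular orbit are conjugate, with prescribed generators. -/
theorem Hk.conj_four {a b s t : G} (ha : a * a = 1) (hb : b * b = 1) (hab : a * b = b * a)
    (hs : s * s = 1) (ht : t * t = 1) (hst : s * t = t * s) {u v : Ω}
    (u1 : a • u ≠ u) (u2 : b • u ≠ u) (u3 : (a * b) • u ≠ u)
    (v1 : s • v ≠ v) (v2 : t • v ≠ v) (v3 : (s * t) • v ≠ v) :
    ∃ g : G, g * a * g⁻¹ = s ∧ g * b * g⁻¹ = t := by
  obtain ⟨e1, e2, e3, e4, e5, e6⟩ := reg_ne ha hab u1 u2 u3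
  obtain ⟨f1, f2, f3, f4, f5, f6⟩ := reg_ne hs hst v1 v2 v3
  obtain ⟨g, g1, g2, g3, g4⟩ := mt4 h.tr e1 e2 e3 e4 e5 e6 f1 f2 f3 f4 f5 f6
  -- elements that agree on the orbit
  have key : ∀ x y : G, x * x = 1 → y * y = 1 → x • v = y • v → x • s • v = y • s • v →
      x • t • v = y • t • v → x • (s * t) • v = y • (s * t) • v →
      ∃ k : G, k * x * k⁻¹ = y ∧ (∀ w : Ω, x • w = y • w → k • w = w) ∧
        ∀ z : G, Commute z x → Commute z y → Commute z k := by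
    intro x y hx hy k1 k2 k3 k4
    have hfix : ∀ w : Ω, x • w = y • w → (x * y) • w = w := fun w hw => by
      rw [mul_smul, ← hw, ← mul_smul, hx, one_smul]
    obtain ⟨j, hj⟩ := conj_of_odd hx hy (h.odd _ (four_le_ncard f1 f2 f3 f4 f5 f6
      (hfix _ k1) (hfix _ k2) (hfix _ k3) (hfix _ k4)))
    exact ⟨(x * y) ^ j, hj, fun w hw => pow_smul_of_fix (hfix w hw) j,
      fun z h1 h2 => (h1.mul_right h2).pow_right j⟩
  have ss : ∀ w : Ω, s • s • w = w := fun w => by rw [← mul_smul, hs, one_smul]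
  have tt : ∀ w : Ω, t • t • w = w := fun w => by rw [← mul_smul, ht, one_smul]
  have aa : ∀ w : Ω, a • a • w = w := fun w => by rw [← mul_smul, ha, one_smul]
  have bb : ∀ w : Ω, b • b • w = w := fun w => by rw [← mul_smul, hb, one_smul]
  have st : ∀ w : Ω, t • s • w = s • t • w := fun w => by rw [← mul_smul, ← hst, mul_smul]
  have ab : ∀ w : Ω, b • a • w = a • b • w := fun w => by rw [← mul_smul, ← hab, mul_smul]
  have cj : ∀ (x : G) (w : Ω), (g * x * g⁻¹) • g • w = g • x • w := fun x w => by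
    rw [mul_smul, mul_smul, inv_smul_smul]
  rw [mul_smul] at g4
  rw [mul_smul] at g4
  have A1 : (g * a * g⁻¹) • v = s • v := by rw [← g1, cj, g2, g1]
  have A2 : (g * a * g⁻¹) • s • v = s • s • v := by rw [ss, ← g2, cj, aa, g1]
  have A3 : (g * a * g⁻¹) • t • v = s • t • v := by rw [← g4, ← g3, cj]
  have A4 : (g * a * g⁻¹) • (s * t) • v = s • (s * t) • v := by
    rw [mul_smul s, ss, ← g4, cj, aa, g3]
  have B1 : (g * b * g⁻¹) • v = t • v := by rw [← g1, cj, g3, g1]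
  have B2 : (g * b * g⁻¹) • s • v = t • s • v := by rw [st, ← g4, ← g2, cj, ab]
  have B3 : (g * b * g⁻¹) • t • v = t • t • v := by rw [tt, ← g3, cj, bb, g1]
  have B4 : (g * b * g⁻¹) • (s * t) • v = t • (s * t) • v := by
    rw [mul_smul s, st, tt, ← g4, cj, ab, bb, g2]
  obtain ⟨k, k1, k2, -⟩ := key (g * a * g⁻¹) s (H42.conj_mul_self ha g) hs A1 A2 A3 A4
  have m1 := k2 _ A1
  have m2 := k2 _ A2
  have m3 := k2 _ A3
  have m4 := k2 _ A4
  have inv : ∀ w : Ω, k • w = w → k⁻¹ • w = w := fun w hw => by rw [inv_smul_eq_iff, hw]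
  obtain ⟨l, l1, -, l3⟩ := key (k * (g * b * g⁻¹) * k⁻¹) t
    (H42.conj_mul_self (H42.conj_mul_self hb g) k) ht
    (by rw [mul_smul, mul_smul, inv _ m1, B1, m3])
    (by rw [mul_smul, mul_smul, inv _ m2, B2, st, ← mul_smul s, m4])
    (by rw [mul_smul, mul_smul, inv _ m3, B3, tt, m1])
    (by rw [mul_smul, mul_smul, inv _ m4, B4, mul_smul s, st, tt, m2])
  have l4 := l3 s (by
    rw [← k1]
    change _ * _ = _ * _
    simp only [mul_assoc, inv_mul_cancel_left]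
    rw [← mul_assoc a, hab, mul_assoc]) hst
  refine ⟨l * k * g, ?_, ?_⟩
  · calc l * k * g * a * (l * k * g)⁻¹ = l * (k * (g * a * g⁻¹) * k⁻¹) * l⁻¹ := by group
      _ = s := by rw [k1, ← l4.eq, mul_inv_cancel_right]
  · rw [← l1]; group

/-- No four-group fixes two points when the degree is at least eight. -/
theorem Hk.no_four (hn : 8 ≤ Nat.card Ω) {s t : G} (hs : s * s = 1) (ht : t * t = 1)
    (hc : s * t = t * s) (s1 : s ≠ 1) (t1 : t ≠ 1) (st1 : s * t ≠ 1) {p q : Ω} (hpq : p ≠ q)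
    (sp : s • p = p) (sq : s • q = q) (tp : t • p = p) (tq : t • q = q) : False := by
  obtain ⟨x, hx⟩ := exists_not_mem_of_lt (S := ({p, q} : Set Ω)) (by rw [Set.ncard_pair hpq]; omega)
  obtain ⟨y, hy⟩ := exists_not_mem_of_lt (S := ({x, p, q} : Set Ω)) (by
    rw [Set.ncard_insert_of_notMem hx, Set.ncard_pair hpq]; omega)
  simp only [Set.mem_insert_iff, Set.mem_singleton_iff, not_or] at hx hy
  obtain ⟨a, b, ha, hb, hab, a1, a2, a3, b1, b2⟩ := h.exists_V hpq (Ne.symm hx.1) (Ne.symm hy.2.1)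
    (Ne.symm hx.2) (Ne.symm hy.2.2) (Ne.symm hy.1)
  have ha1 : a ≠ 1 := by rintro rfl; exact hy.1 (by simpa using a3.symm)
  have hb1 : b ≠ 1 := by rintro rfl; exact hpq (by simpa using b1)
  have hab1 : a * b ≠ 1 := fun e => hpq (by
    have := congrArg (· • p) e
    simpa [mul_smul, b1, a2] using this.symm)
  obtain ⟨u, u1, u2, u3⟩ := h.exists_reg hn ha hb hab ha1 hb1 hab1
  obtain ⟨v, v1, v2, v3⟩ := h.exists_reg hn hs ht hc s1 t1 st1
  obtain ⟨g, rfl, rfl⟩ := h.conj_four ha hb hab hs ht hc u1 u2 u3 v1 v2 v3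
  have back : ∀ (z : G) (w : Ω), (g * z * g⁻¹) • w = w → z • g⁻¹ • w = g⁻¹ • w := fun z w hw => by
    rw [mul_smul, mul_smul, ← eq_inv_smul_iff] at hw
    exact hw
  have n1 : ∀ w : Ω, b • w = w → p ≠ w ∧ q ≠ w := fun w hw =>
    ⟨by rintro rfl; exact hpq (hw.symm.trans b1), by rintro rfl; exact hpq (b2.symm.trans hw)⟩
  have c1 := n1 _ (back b p tp)
  have c2 := n1 _ (back b q tq)
  have := h.fix_lt ha ha1
  have := four_le_ncard (S := fixedBy Ω a) hpq c1.1 c2.1 c1.2 c2.2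
    (fun e => hpq (MulAction.injective g⁻¹ e)) a1 a2 (back a p sp) (back a q sq)
  omega

/-- The stabiliser of two points has a regular normal subgroup. -/
theorem Hk.exists_R (hn : 8 ≤ Nat.card Ω) {p q : Ω} (hpq : p ≠ q) :
    ∃ R : Subgroup G, (∀ r ∈ R, r • p = p ∧ r • q = q) ∧
      (∀ g : G, g • p = p → g • q = q → ∀ r ∈ R, g * r * g⁻¹ ∈ R) ∧
      (∀ x y : Ω, x ≠ p → x ≠ q → y ≠ p → y ≠ q → ∃ r ∈ R, r • x = y) ∧
      (∀ x : Ω, x ≠ p → x ≠ q → ∀ r ∈ R, r • x = x → r = 1) := by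
  have hmem : ∀ g : G, g ∈ fixingSubgroup G ({p, q} : Set Ω) ↔ g • p = p ∧ g • q = q := fun g => by
    simp [mem_fixingSubgroup_iff]
  have hpt : ∀ x : Ω, x ∈ SubMulAction.ofFixingSubgroup G ({p, q} : Set Ω) ↔ x ≠ p ∧ x ≠ q :=
    fun x => by simp [SubMulAction.mem_ofFixingSubgroup_iff]
  have h2 : H12.T2 (fixingSubgroup G ({p, q} : Set Ω))
      (SubMulAction.ofFixingSubgroup G ({p, q} : Set Ω)) := by
    refine ⟨fun g hg => Subtype.ext (h.faith _ fun c => ?_), fun {a b c d} hab hcd => ?_⟩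
    · by_cases e : c ∈ ({p, q} : Set Ω)
      · exact (mem_fixingSubgroup_iff G).1 g.2 c e
      · exact congrArg Subtype.val (hg ⟨c, e⟩)
    · have := h.tr
      exact is_two_pretransitive_iff.1
        (SubMulAction.ofFixingSubgroup.isMultiplyPretransitive G (n := 4) _
          (by rw [Set.ncard_pair hpq])) hab hcd
  obtain ⟨x, hx⟩ := exists_not_mem_of_lt (S := ({p, q} : Set Ω)) (by rw [Set.ncard_pair hpq]; omega)
  obtain ⟨y, hy⟩ := exists_not_mem_of_lt (S := ({x, p, q} : Set Ω)) (by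
    rw [Set.ncard_insert_of_notMem hx, Set.ncard_pair hpq]; omega)
  simp only [Set.mem_insert_iff, Set.mem_singleton_iff, not_or] at hx hy
  obtain ⟨a, b, ha, -, -, a1, a2, a3, -, -⟩ := h.exists_V hpq (Ne.symm hx.1) (Ne.symm hy.2.1)
    (Ne.symm hx.2) (Ne.symm hy.2.2) (Ne.symm hy.1)
  have ha1 : a ≠ 1 := by rintro rfl; exact hy.1 (by simpa using a3.symm)
  obtain ⟨R, hR, h3, h4⟩ := h2.regN_of_isolated (t := ⟨a, (hmem a).2 ⟨a1, a2⟩⟩) ⟨by
    rw [Subgroup.orderOf_mk]; exact orderOf_eq_prime (by rw [sq, ha]) ha1, fun g hg => by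
      by_contra hne
      have hg' : a * (g * a * (g : G)⁻¹) = g * a * (g : G)⁻¹ * a := congrArg Subtype.val hg
      have h5 := (hmem _).1 (g * ⟨a, (hmem a).2 ⟨a1, a2⟩⟩ * g⁻¹).2
      refine h.no_four hn ha (H42.conj_mul_self ha g) hg' ha1 (by simpa using ha1) (fun e => hne ?_)
        hpq a1 a2 h5.1 h5.2
      apply Subtype.ext
      change (g : G) * a * (g : G)⁻¹ = a
      rw [← ha] at e
      exact mul_left_cancel e⟩
  refine ⟨R.map (Subgroup.subtype _), ?_, ?_, ?_, ?_⟩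
  · rintro _ ⟨r, -, rfl⟩
    exact (hmem _).1 r.2
  · rintro g g1 g2 _ ⟨r, hr, rfl⟩
    exact ⟨_, hR.conj_mem r hr ⟨g, (hmem g).2 ⟨g1, g2⟩⟩, rfl⟩
  · intro x y x1 x2 y1 y2
    obtain ⟨r, hr, e⟩ := h3 ⟨x, (hpt x).2 ⟨x1, x2⟩⟩ ⟨y, (hpt y).2 ⟨y1, y2⟩⟩
    exact ⟨r, ⟨r, hr, rfl⟩, congrArg Subtype.val e⟩
  · rintro x x1 x2 _ ⟨r, hr, rfl⟩ e
    exact congrArg Subtype.val (h4 ⟨x, (hpt x).2 ⟨x1, x2⟩⟩ r hr (Subtype.ext e))

end four

end Cfsg.Agent.LW
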