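import Cfsg.Agent.LW.Hall1
import Cfsg.Agent.H16.Jordan

/-! M. Hall's theorem on 4-transitive groups with odd four-point stabilisers, part 2:
the degree is 4, 5, 6, 7 or 11, and in degree 11 the group is sharply 4-transitive. -/

set_option autoImplicit false

namespace Cfsg.Agent.LW

open MulAction Cfsg.Agent.H26

variable {G Ω : Type*} [Group G] [MulAction G Ω]

/-- `R` is a regular normal subgroup of the stabiliser of `p`, `q`. -/
structure RegR (R : Subgroup G) (p q : Ω) : Prop where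
  ne : p ≠ q
  fix : ∀ r ∈ R, r • p = p ∧ r • q = q
  norm : ∀ g : G, g • p = p → g • q = q → ∀ r ∈ R, g * r * g⁻¹ ∈ R
  tr : ∀ x y : Ω, x ≠ p → x ≠ q → y ≠ p → y ≠ q → ∃ r ∈ R, r • x = y
  reg : ∀ x : Ω, x ≠ p → x ≠ q → ∀ r ∈ R, r • x = x → r = 1

namespace RegR

variable {R : Subgroup G} {p q : Ω} (hR : RegR R p q)
include hR

theorem smul_ne {x : Ω} (x1 : x ≠ p) (x2 : x ≠ q) {r : G} (hr : r ∈ R) :
    r • x ≠ p ∧ r • x ≠ q :=
  ⟨fun e => x1 (MulAction.injective r (e.trans (hR.fix r hr).1.symm)),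
    fun e => x2 (MulAction.injective r (e.trans (hR.fix r hr).2.symm))⟩

theorem eq_of {x : Ω} (x1 : x ≠ p) (x2 : x ≠ q) {r s : G} (hr : r ∈ R) (hs : s ∈ R)
    (e : r • x = s • x) : r = s := by
  have := hR.reg x x1 x2 (s⁻¹ * r) (R.mul_mem (R.inv_mem hs) hr) (by rw [mul_smul, e, inv_smul_smul])
  rw [inv_mul_eq_one] at this
  exact this.symm

/-- The centraliser in `R` of an element normalising `R` and fixing `x` corresponds to its fixed
points different from `p`, `q`. -/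
theorem card_cent {d : G} {x : Ω} (x1 : x ≠ p) (x2 : x ≠ q) (hd : d • x = x)
    (hn : ∀ r ∈ R, d * r * d⁻¹ ∈ R) :
    Nat.card (R ⊓ Subgroup.centralizer ({d} : Set G) : Subgroup G) =
      (fixedBy Ω d \ {p, q}).ncard := by
  rw [← Nat.card_coe_set_eq]
  have hd' : d⁻¹ • x = x := by rw [inv_smul_eq_iff, hd]
  refine Nat.card_congr (Equiv.ofBijective (fun r => ⟨(r : G) • x, ?_, ?_⟩) ⟨?_, ?_⟩)
  · have := Subgroup.mem_centralizer_singleton_iff.1 r.2.2
    rw [mem_fixedBy, ← mul_smul, ← this, mul_smul, hd]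
  · simpa using hR.smul_ne x1 x2 r.2.1
  · intro r s e
    exact Subtype.ext (hR.eq_of x1 x2 r.2.1 s.2.1 (congrArg Subtype.val e))
  · rintro ⟨y, hy, hy'⟩
    simp only [Set.mem_insert_iff, Set.mem_singleton_iff, not_or] at hy'
    obtain ⟨r, hr, rfl⟩ := hR.tr x y x1 x2 hy'.1 hy'.2
    refine ⟨⟨r, hr, Subgroup.mem_centralizer_singleton_iff.2 ?_⟩, rfl⟩
    have := hR.eq_of x1 x2 (hn r hr) hr (by rw [mul_smul, mul_smul, hd', hy])
    rw [← this, inv_mul_cancel_right, this]

theorem card_eq [Finite Ω] {x : Ω} (x1 : x ≠ p) (x2 : x ≠ q) : Nat.card R + 2 = Nat.card Ω := by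
  have h1 := hR.card_cent x1 x2 (one_smul G x) (fun r hr => by simpa using hr)
  have h2 : (R ⊓ Subgroup.centralizer ({1} : Set G) : Subgroup G) = R :=
    inf_eq_left.2 fun r _ => Subgroup.mem_centralizer_singleton_iff.2 (by simp)
  rw [h2, fixedBy_one_eq_univ] at h1
  rw [h1, ← Set.ncard_pair hR.ne, Set.ncard_sdiff_add_ncard_of_subset (Set.subset_univ _),
    Set.ncard_univ]

theorem eq_one_of_cent (hf : ∀ g : G, (∀ c : Ω, g • c = c) → g = 1) {g : G} {x : Ω} (x1 : x ≠ p)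
    (x2 : x ≠ q) (g1 : g • p = p) (g2 : g • q = q) (g3 : g • x = x)
    (hc : ∀ r ∈ R, g * r = r * g) : g = 1 := by
  refine hf g fun c => ?_
  by_cases c1 : c = p
  · rw [c1, g1]
  by_cases c2 : c = q
  · rw [c2, g2]
  obtain ⟨r, hr, rfl⟩ := hR.tr x c x1 x2 c1 c2
  rw [← mul_smul, hc r hr, mul_smul, g3]

/-- An involution with a single fixed point besides `p`, `q` inverts `R`. -/
theorem inverts [Finite G] {t : G} (ht : t * t = 1) (t1 : t • p = p) (t2 : t • q = q) {x : Ω}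
    (x1 : x ≠ p) (x2 : x ≠ q) (hx : t • x = x)
    (hu : ∀ y : Ω, y ≠ p → y ≠ q → t • y = y → y = x) : ∀ r ∈ R, t * r * t⁻¹ = r⁻¹ := by
  let φ : R →* R := ((MulAut.conj t).toMonoidHom.comp R.subtype).codRestrict R
    fun r => hR.norm t t1 t2 r r.2
  have hφ : ∀ r : R, (φ r : G) = t * r * t⁻¹ := fun r => rfl
  have h1 : MonoidHom.FixedPointFree φ := fun r hr => by
    have e : t * r * t⁻¹ = r := congrArg Subtype.val hr
    have h2 := hR.smul_ne x1 x2 r.2
    refine Subtype.ext (hR.reg x x1 x2 r r.2 (hu _ h2.1 h2.2 ?_))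
    rw [← mul_smul, mul_inv_eq_iff_eq_mul.1 e, mul_smul, hx]
  have h2 := h1.coe_eq_inv_of_involutive (fun r => Subtype.ext (by
    rw [hφ, hφ, inv_eq_of_mul_eq_one_right ht]
    calc t * (t * r * t) * t = (t * t) * r * (t * t) := by group
      _ = r := by rw [ht, one_mul, mul_one]))
  intro r hr
  exact congrArg Subtype.val (congrFun h2 ⟨r, hr⟩)

end RegR

section four

variable [Finite G] [Finite Ω] (h : Hk G Ω 4)
include h

theorem Hk.regR (hn : 8 ≤ Nat.card Ω) {p q : Ω} (hpq : p ≠ q) : ∃ R : Subgroup G, RegR R p q := by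
  obtain ⟨R, h1, h2, h3, h4⟩ := h.exists_R hn hpq
  exact ⟨R, hpq, h1, h2, h3, h4⟩

theorem Hk.odd_card (hn : 8 ≤ Nat.card Ω) : Nat.card Ω % 2 = 1 := by
  by_contra he
  obtain ⟨p, -⟩ := exists_not_mem_of_lt (S := (∅ : Set Ω)) (by simp; omega)
  obtain ⟨q, hq⟩ := exists_not_mem_of_lt (S := ({p} : Set Ω)) (by simp; omega)
  have hpq : p ≠ q := fun e => hq (by simp [e])
  obtain ⟨x, hx⟩ := exists_not_mem_of_lt (S := ({p, q} : Set Ω)) (by rw [Set.ncard_pair hpq]; omega)
  simp only [Set.mem_insert_iff, Set.mem_singleton_iff, not_or] at hx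
  obtain ⟨R, hR⟩ := h.regR hn hpq
  have h1 := hR.card_eq hx.1 hx.2
  have : Fact (Nat.Prime 2) := ⟨Nat.prime_two⟩
  obtain ⟨⟨s, hs⟩, h2⟩ := exists_prime_orderOf_dvd_card' (G := R) 2 (by omega)
  rw [Subgroup.orderOf_mk] at h2
  have s1 : s ≠ 1 := by rintro rfl; simp at h2
  have s2 : s * s = 1 := by rw [← sq, ← h2, pow_orderOf_eq_one]
  have hsq : ∀ r ∈ R, r * r = 1 := fun r hr => by
    by_cases r1 : r = 1
    · simp [r1]
    have a1 := hR.smul_ne hx.1 hx.2 hs
    have a2 := hR.smul_ne hx.1 hx.2 hr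
    obtain ⟨g, g1, g2, g3, g4⟩ := mt4 h.tr hpq (Ne.symm hx.1) a1.1.symm (Ne.symm hx.2) a1.2.symm
      (fun e => s1 (hR.reg x hx.1 hx.2 s hs e.symm)) hpq (Ne.symm hx.1) a2.1.symm (Ne.symm hx.2)
      a2.2.symm (fun e => r1 (hR.reg x hx.1 hx.2 r hr e.symm))
    have g5 : g⁻¹ • x = x := by rw [inv_smul_eq_iff, g3]
    rw [← hR.eq_of hx.1 hx.2 (hR.norm g g1 g2 s hs) hr (by rw [mul_smul, mul_smul, g5, g4])]
    exact H42.conj_mul_self s2 g
  obtain ⟨⟨t, ht⟩, h3⟩ := exists_not_mem_of_lt (S := ({1, ⟨s, hs⟩} : Set R))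
    (lt_of_le_of_lt (Set.ncard_insert_le _ _) (by simp; omega))
  simp only [Set.mem_insert_iff, Set.mem_singleton_iff, not_or, Subtype.ext_iff] at h3
  have t2 := hsq t ht
  have h4 := hsq _ (R.mul_mem hs ht)
  refine h.no_four hn s2 t2 ?_ s1 h3.1 (fun e => h3.2 ?_) hpq (hR.fix s hs).1 (hR.fix s hs).2
    (hR.fix t ht).1 (hR.fix t ht).2
  · rw [eq_inv_of_mul_eq_one_left h4, mul_inv_rev, inv_eq_of_mul_eq_one_right s2,
      inv_eq_of_mul_eq_one_right t2]
  · rw [← s2] at e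
    exact mul_left_cancel e

omit [Finite G] in
/-- In odd degree an involution fixing two points fixes exactly one more. -/
theorem Hk.third (ho : Nat.card Ω % 2 = 1) {t : G} (ht : t * t = 1) (t0 : t ≠ 1) {p q : Ω}
    (hpq : p ≠ q) (t1 : t • p = p) (t2 : t • q = q) :
    ∃ x : Ω, x ≠ p ∧ x ≠ q ∧ t • x = x ∧ ∀ y : Ω, y ≠ p → y ≠ q → t • y = y → y = x := by
  have a1 := h.fix_lt ht t0
  have a2 := ncard_fix_mod (Ω := Ω) ht
  have a3 : ({p, q} : Set Ω) ⊆ fixedBy Ω t := by
    rintro y (rfl | rfl)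
    exacts [t1, t2]
  have a4 := Set.ncard_sdiff_add_ncard_of_subset a3
  rw [Set.ncard_pair hpq] at a4
  obtain ⟨x, hx⟩ := Set.ncard_eq_one.1 (show (fixedBy Ω t \ {p, q}).ncard = 1 by omega)
  have a5 : ∀ y, y = x ↔ t • y = y ∧ y ≠ p ∧ y ≠ q := fun y => by
    rw [← Set.mem_singleton_iff, ← hx]; simp
  have a6 := (a5 x).1 rfl
  exact ⟨x, a6.2.1, a6.2.2, a6.1, fun y y1 y2 y3 => (a5 y).2 ⟨y3, y1, y2⟩⟩

theorem Hk.card_eq (hn : 8 ≤ Nat.card Ω) : Nat.card Ω = 11 := by
  have ho := h.odd_card hn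
  obtain ⟨p, -⟩ := exists_not_mem_of_lt (S := (∅ : Set Ω)) (by simp; omega)
  obtain ⟨q, hq⟩ := exists_not_mem_of_lt (S := ({p} : Set Ω)) (by simp; omega)
  have hpq : p ≠ q := fun e => hq (by simp [e])
  obtain ⟨y, hy⟩ := exists_not_mem_of_lt (S := ({p, q} : Set Ω)) (by rw [Set.ncard_pair hpq]; omega)
  obtain ⟨z, hz⟩ := exists_not_mem_of_lt (S := ({y, p, q} : Set Ω)) (by
    rw [Set.ncard_insert_of_notMem hy, Set.ncard_pair hpq]; omega)
  simp only [Set.mem_insert_iff, Set.mem_singleton_iff, not_or] at hy hz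
  obtain ⟨a, b, ha, hb, hab, a1, a2, a3, b1, b2⟩ := h.exists_V hpq (Ne.symm hy.1) (Ne.symm hz.2.1)
    (Ne.symm hy.2) (Ne.symm hz.2.2) (Ne.symm hz.1)
  have ha1 : a ≠ 1 := by rintro rfl; exact hz.1 (by simpa using a3.symm)
  have hb1 : b ≠ 1 := by rintro rfl; exact hpq (by simpa using b1)
  have hab1 : a * b ≠ 1 := fun e => hpq (by
    have := congrArg (· • p) e
    simpa [mul_smul, b1, a2] using this.symm)
  have ia : a⁻¹ = a := inv_eq_of_mul_eq_one_right ha
  have ib : b⁻¹ = b := inv_eq_of_mul_eq_one_right hb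
  obtain ⟨R, hR⟩ := h.regR hn hpq
  have inv : ∀ t : G, t * t = 1 → t ≠ 1 → t • p = p → t • q = q → ∀ r ∈ R, t * r * t⁻¹ = r⁻¹ :=
    fun t ht t0 t1 t2 => by
      obtain ⟨x, x1, x2, x3, x4⟩ := h.third ho ht t0 hpq t1 t2
      exact hR.inverts ht t1 t2 x1 x2 x3 x4
  obtain ⟨x, x1, x2, ax, hu⟩ := h.third ho ha ha1 hpq a1 a2
  have hc := hR.card_eq x1 x2
  have inva := inv a ha ha1 a1 a2
  have comm : ∀ r ∈ R, ∀ s ∈ R, r * s = s * r := fun r hr s hs => by
    have e := inva _ (R.mul_mem hr hs)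
    have e' : a * (r * s) * a⁻¹ = (a * r * a⁻¹) * (a * s * a⁻¹) := by group
    rw [e', inva r hr, inva s hs, ← mul_inv_rev] at e
    exact (inv_injective e).symm
  have bx : b • x = x := hu _
    (fun e => x2 (MulAction.injective b (e.trans b2.symm)))
    (fun e => x1 (MulAction.injective b (e.trans b1.symm)))
    (by rw [← mul_smul, hab, mul_smul, ax])
  have bR : ∀ r ∈ R, b * r * b⁻¹ ∈ R := fun r hr => by
    have e1 : a * r * (a * r) = 1 := by
      have := inva r hr
      rw [ia] at this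
      rw [← mul_assoc, this, inv_mul_cancel]
    have e2 : a * r ≠ 1 := fun e => ha1 (hR.reg x x1 x2 a
      (by rw [eq_inv_of_mul_eq_one_left e]; exact R.inv_mem hr) ax)
    have f1 : (b * r * b⁻¹) • p = p := by rw [ib, mul_smul, mul_smul, b1, (hR.fix r hr).2, b2]
    have f2 : (b * r * b⁻¹) • q = q := by rw [ib, mul_smul, mul_smul, b2, (hR.fix r hr).1, b1]
    have e3 : b * (a * r) * b⁻¹ = a * (b * r * b⁻¹) := by
      rw [← mul_assoc, ← hab]; group
    have e4 := inv _ (H42.conj_mul_self e1 b) (by simpa using e2)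
      (by rw [e3, mul_smul, f1, a1]) (by rw [e3, mul_smul, f2, a2])
    have e5 : ∀ s ∈ R, b * r * b⁻¹ * s = s * (b * r * b⁻¹) := fun s hs => by
      have e6 := e4 s hs
      rw [e3, ← inva s hs] at e6
      have e7 : b * r * b⁻¹ * s * (b * r * b⁻¹)⁻¹ = s := by
        apply (MulAut.conj a).injective
        rw [MulAut.conj_apply, MulAut.conj_apply, ← e6]; group
      exact mul_inv_eq_iff_eq_mul.1 e7
    have n1 : (b * r * b⁻¹) • x ≠ p := fun e => x1 (MulAction.injective _ (e.trans f1.symm))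
    have n2 : (b * r * b⁻¹) • x ≠ q := fun e => x2 (MulAction.injective _ (e.trans f2.symm))
    obtain ⟨s, hs, e⟩ := hR.tr x _ x1 x2 n1 n2
    have e8 := hR.eq_one_of_cent h.faith (g := s⁻¹ * (b * r * b⁻¹)) x1 x2
      (by rw [mul_smul, f1, (hR.fix _ (R.inv_mem hs)).1])
      (by rw [mul_smul, f2, (hR.fix _ (R.inv_mem hs)).2])
      (by rw [mul_smul, ← e, inv_smul_smul])
      (fun u hu => by rw [mul_assoc, e5 u hu, ← mul_assoc, comm _ (R.inv_mem hs) u hu, mul_assoc])
    rw [inv_mul_eq_one] at e8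
    exact e8 ▸ hs
  have hst : a * b * (a * b) = 1 := by
    rw [mul_assoc, ← mul_assoc b, ← hab, mul_assoc, hb, mul_one, ha]
  have cR : ∀ r ∈ R, a * b * r * (a * b)⁻¹ = (b * r * b⁻¹)⁻¹ := fun r hr => by
    rw [← inva _ (bR r hr)]; group
  have c1 := hR.card_cent x1 x2 bx bR
  have c2 := hR.card_cent (d := a * b) x1 x2 (by rw [mul_smul, bx, ax])
    (fun r hr => by rw [cR r hr]; exact R.inv_mem (bR r hr))
  have d1 := (Set.ncard_le_ncard (Set.sdiff_subset (s := fixedBy Ω b) (t := {p, q}))).trans_lt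
    (h.fix_lt hb hb1)
  have d2 := (Set.ncard_le_ncard (Set.sdiff_subset (s := fixedBy Ω (a * b)) (t := {p, q}))).trans_lt
    (h.fix_lt hst hab1)
  rw [← c1] at d1
  rw [← c2] at d2
  have bb : ∀ r : G, b * (b * r * b⁻¹) * b⁻¹ = r := fun r => by
    calc b * (b * r * b⁻¹) * b⁻¹ = (b * b) * r * (b * b)⁻¹ := by group
      _ = r := by rw [hb]; group
  let f : R → (R ⊓ Subgroup.centralizer ({b} : Set G) : Subgroup G) ×
      (R ⊓ Subgroup.centralizer ({a * b} : Set G) : Subgroup G) := fun r =>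
    (⟨r * (b * r * b⁻¹), R.mul_mem r.2 (bR r r.2), Subgroup.mem_centralizer_singleton_iff.2 (by
        refine (mul_inv_eq_iff_eq_mul.1 ?_).symm
        calc b * (r * (b * r * b⁻¹)) * b⁻¹ = (b * r * b⁻¹) * (b * (b * r * b⁻¹) * b⁻¹) := by group
          _ = _ := by rw [bb, comm _ (bR r r.2) _ r.2])⟩,
      ⟨r * (b * r * b⁻¹)⁻¹, R.mul_mem r.2 (R.inv_mem (bR r r.2)),
        Subgroup.mem_centralizer_singleton_iff.2 (by
        refine (mul_inv_eq_iff_eq_mul.1 ?_).symm
        calc a * b * (r * (b * r * b⁻¹)⁻¹) * (a * b)⁻¹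
            = (a * b * r * (a * b)⁻¹) * (a * b * (b * r * b⁻¹) * (a * b)⁻¹)⁻¹ := by group
          _ = _ := by
            rw [cR r r.2, cR _ (bR r r.2), bb, inv_inv, comm _ (R.inv_mem (bR r r.2)) _ r.2])⟩)
  have sq : ∀ r ∈ R, r * (b * r * b⁻¹) * (r * (b * r * b⁻¹)⁻¹) = r ^ 2 := fun r hr => by
    rw [mul_assoc, ← mul_assoc (b * r * b⁻¹), comm _ (bR r hr) _ hr, sq]; group
  have hodd : ∀ r ∈ R, Odd (orderOf r) := fun r hr =>
    Odd.of_dvd_nat (n := Nat.card R) (Nat.odd_iff.2 (by omega)) (Subgroup.orderOf_dvd_natCard R hr)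
  have hf : Function.Injective f := fun r s e => by
    have e1 : (r : G) * (b * r * b⁻¹) = s * (b * s * b⁻¹) := congrArg (fun u => (u.1 : G)) e
    have e2 : (r : G) * (b * r * b⁻¹)⁻¹ = s * (b * s * b⁻¹)⁻¹ := congrArg (fun u => (u.2 : G)) e
    exact Subtype.ext (H42.eq_of_sq_eq_of_odd (hodd r r.2) (hodd s s.2)
      (by rw [← sq r r.2, ← sq s s.2, e1, e2]))
  have k1 := Nat.card_le_card_of_injective f hf
  rw [Nat.card_prod] at k1
  have k2 := Subgroup.card_dvd_of_le
    (inf_le_left : (R ⊓ Subgroup.centralizer ({b} : Set G) : Subgroup G) ≤ R)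
  have k3 := Subgroup.card_dvd_of_le
    (inf_le_left : (R ⊓ Subgroup.centralizer ({a * b} : Set G) : Subgroup G) ≤ R)
  generalize Nat.card (R ⊓ Subgroup.centralizer ({b} : Set G) : Subgroup G) = u at *
  generalize Nat.card (R ⊓ Subgroup.centralizer ({a * b} : Set G) : Subgroup G) = v at *
  generalize Nat.card R = w at *
  have k4 : w ≤ 9 := k1.trans (Nat.mul_le_mul (show u ≤ 3 by omega) (show v ≤ 3 by omega))
  have k5 : w = 7 ∨ w = 9 := by omega
  rcases k5 with rfl | rfl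
  · exfalso
    interval_cases u <;> interval_cases v <;> omega
  · omega

/-- In degree eleven an element fixing four points fixes five or eleven points. -/
theorem Hk.fix_five (hn : Nat.card Ω = 11) {d : G} (hd : 4 ≤ (fixedBy Ω d).ncard) (d1 : d ≠ 1) :
    (fixedBy Ω d).ncard = 5 := by
  obtain ⟨p, q, x, hp, hq, hx, hpq, hpx, hqx⟩ := (Set.two_lt_ncard_iff (s := fixedBy Ω d)).1 (by omega)
  obtain ⟨R, hR⟩ := h.regR (by omega) hpq
  have c1 := hR.card_cent hpx.symm hqx.symm hx (hR.norm d hp hq)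
  have c2 := hR.card_eq hpx.symm hqx.symm
  have a3 : ({p, q} : Set Ω) ⊆ fixedBy Ω d := by
    rintro y (rfl | rfl)
    exacts [hp, hq]
  have a4 := Set.ncard_sdiff_add_ncard_of_subset a3
  rw [Set.ncard_pair hpq, ← c1] at a4
  have k2 := Subgroup.card_dvd_of_le
    (inf_le_left : (R ⊓ Subgroup.centralizer ({d} : Set G) : Subgroup G) ≤ R)
  have k3 : (fixedBy Ω d).ncard ≠ 11 := fun e => d1 (h.faith d fun c => by
    have := Set.eq_of_subset_of_ncard_le (Set.subset_univ (fixedBy Ω d))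
      (by rw [Set.ncard_univ]; omega)
    change c ∈ fixedBy Ω d
    rw [this]; trivial)
  rw [show Nat.card R = 9 by omega] at k2
  generalize Nat.card (R ⊓ Subgroup.centralizer ({d} : Set G) : Subgroup G) = u at *
  have := Nat.le_of_dvd (by norm_num) k2
  interval_cases u <;> omega

omit [Finite Ω] h in
theorem odd_card_of_forall {H : Subgroup G} (hH : ∀ g ∈ H, Odd (orderOf g)) : Odd (Nat.card H) := by
  by_contra he
  have : Fact (Nat.Prime 2) := ⟨Nat.prime_two⟩
  obtain ⟨g, hg⟩ := exists_prime_orderOf_dvd_card' (G := H) 2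
    (even_iff_two_dvd.1 (Nat.not_odd_iff_even.1 he))
  have := hH g g.2
  rw [Subgroup.orderOf_coe, hg] at this
  exact absurd this (by decide)

/-- In degree at least eight the group is sharply 4-transitive of degree eleven. -/
theorem Hk.sharp (hn : 8 ≤ Nat.card Ω) {d : G} (hd : 4 ≤ (fixedBy Ω d).ncard) : d = 1 := by
  have h11 := h.card_eq hn
  obtain ⟨s, hs, hs4⟩ := Set.exists_subset_card_eq hd
  have hm : ∀ g ∈ fixingSubgroup G s, 4 ≤ (fixedBy Ω g).ncard := fun g hg =>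
    hs4 ▸ Set.ncard_le_ncard fun x hx => (mem_fixingSubgroup_iff G).1 hg x hx
  have h1 := H12.card_dvd_of_const_fix (Ω := Ω) (fixingSubgroup G s) 5 (fun g hg g1 =>
    (Nat.card_coe_set_eq (fixedBy Ω g)).trans (h.fix_five h11 (hm g hg) g1)) (by omega)
  have h2 := odd_card_of_forall fun g hg => h.odd g (hm g hg)
  have h3 := IsMultiplyPretransitive.index_of_fixingSubgroup_eq s (hs4 ▸ h.tr)
  have h4 := (fixingSubgroup G s).card_mul_index
  rw [h3, hs4, h11] at h4
  rw [h11] at h1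
  have h5 : Nat.card (fixingSubgroup G s) = 1 := by
    by_contra hne
    have h6 : Nat.card (fixingSubgroup G s) = 3 := by
      have := Nat.le_of_dvd (by norm_num) h1
      rw [Nat.odd_iff] at h2
      generalize Nat.card (fixingSubgroup G s) = u at *
      interval_cases u <;> omega
    have := H16.sharp_mod_dvd (G := G) (α := Ω) (k := 6) (p := 11) (m := 2160) (fun x => by
      rw [eq_bot_iff]
      intro g hg
      by_contra g1
      have a1 : 6 ≤ (fixedBy Ω g).ncard := by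
        have : (Set.range x).ncard = 6 := by
          rw [← Set.image_univ, Set.ncard_image_of_injective _ x.injective, Set.ncard_univ]; simp
        rw [← this]
        refine Set.ncard_le_ncard ?_
        rintro _ ⟨i, rfl⟩
        exact DFunLike.congr_fun (mem_stabilizer_iff.1 hg) i
      have := h.fix_five h11 (d := g) (by omega) g1
      omega) (by omega) (by norm_num) (by rw [← h4, h6]; rfl) (by norm_num) (by norm_num) (by omega)
    norm_num at this
  have h7 : d ∈ fixingSubgroup G s := (mem_fixingSubgroup_iff G).2 fun x hx => hs hx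
  rwa [Subgroup.card_eq_one.1 h5, Subgroup.mem_bot] at h7

omit [Finite G] in
/-- In degree seven some non-trivial element fixes four points. -/
theorem Hk.exists_seven (hn : Nat.card Ω = 7) : ∃ d : G, d ≠ 1 ∧ 4 ≤ (fixedBy Ω d).ncard := by
  by_contra! hc
  have := h.tr
  have := H16.jordan_four (G := G) (α := Ω) (by omega) (fun x => by
    rw [eq_bot_iff]
    intro g hg
    by_contra g1
    have a1 : 4 ≤ (fixedBy Ω g).ncard := by
      have : (Set.range x).ncard = 4 := by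
        rw [← Set.image_univ, Set.ncard_image_of_injective _ x.injective, Set.ncard_univ]; simp
      rw [← this]
      refine Set.ncard_le_ncard ?_
      rintro _ ⟨i, rfl⟩
      exact DFunLike.congr_fun (mem_stabilizer_iff.1 hg) i
    exact absurd (hc g g1) (by omega))
  omega

end four

/-- Passing to the pointwise stabiliser of `m` points. -/
theorem Hk.sub [Finite Ω] {m k : ℕ} (h : Hk G Ω (m + k)) (s : Set Ω) (hs : s.ncard = m) :
    Hk (fixingSubgroup G s) (SubMulAction.ofFixingSubgroup G s) k := by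
  refine ⟨fun g hg => Subtype.ext (h.faith _ fun c => ?_), ?_, fun g hg => ?_⟩
  · by_cases e : c ∈ s
    · exact (mem_fixingSubgroup_iff G).1 g.2 c e
    · exact congrArg Subtype.val (hg ⟨c, e⟩)
  · have := h.tr
    exact SubMulAction.ofFixingSubgroup.isMultiplyPretransitive G (n := m + k) _ (by rw [hs])
  · rw [← Subgroup.orderOf_coe]
    refine h.odd _ ?_
    have h1 : Disjoint s (Subtype.val '' fixedBy (SubMulAction.ofFixingSubgroup G s) g) := by
      rw [Set.disjoint_right]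
      rintro _ ⟨x, -, rfl⟩
      exact x.2
    have h2 := Set.ncard_union_eq h1
    rw [Set.ncard_image_of_injective _ Subtype.val_injective, hs] at h2
    refine le_trans (by omega) (Set.ncard_le_ncard
      (s := s ∪ Subtype.val '' fixedBy (SubMulAction.ofFixingSubgroup G s) g) ?_)
    rintro x (hx | ⟨y, hy, rfl⟩)
    · exact (mem_fixingSubgroup_iff G).1 g.2 x hx
    · exact congrArg Subtype.val hy

theorem card_sub [Finite Ω] (s : Set Ω) :
    Nat.card (SubMulAction.ofFixingSubgroup G s) + s.ncard = Nat.card Ω := by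
  have : Nat.card (SubMulAction.ofFixingSubgroup G s) = sᶜ.ncard := Nat.card_coe_set_eq sᶜ
  rw [this, add_comm, Set.ncard_add_ncard_compl]

/-- Hall's theorem for `k ≥ 4`, the degree. -/
theorem Hk.degree [Finite G] [Finite Ω] {k : ℕ} (h : Hk G Ω k) (hk : 4 ≤ k)
    (hn : k + 4 ≤ Nat.card Ω) : Nat.card Ω = k + 7 := by
  obtain ⟨m, rfl⟩ : ∃ m, k = m + 4 := ⟨k - 4, by omega⟩
  obtain ⟨s, -, hs⟩ := Set.exists_subset_card_eq (s := (Set.univ : Set Ω)) (n := m)
    (by rw [Set.ncard_univ]; omega)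
  have h1 := card_sub (G := G) s
  have := (h.sub s hs).card_eq (by omega)
  omega

theorem le_ncard_fix_sub [Finite Ω] {k : ℕ} (s : Set Ω) (g : fixingSubgroup G s)
    (hg : s.ncard + k ≤ (fixedBy Ω (g : G)).ncard) :
    k ≤ (fixedBy (SubMulAction.ofFixingSubgroup G s) g).ncard := by
  have h1 : fixedBy Ω (g : G) ⊆
      s ∪ Subtype.val '' fixedBy (SubMulAction.ofFixingSubgroup G s) g := fun x hx => by
    by_cases e : x ∈ s
    · exact Or.inl e
    · exact Or.inr ⟨⟨x, e⟩, Subtype.ext hx, rfl⟩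
  have h2 := (Set.ncard_le_ncard h1).trans (Set.ncard_union_le _ _)
  rw [Set.ncard_image_of_injective _ Subtype.val_injective] at h2
  omega

/-- Hall's theorem for `k ≥ 4`, large degree: the group is sharply `k`-transitive. -/
theorem Hk.sharpk [Finite G] [Finite Ω] {k : ℕ} (h : Hk G Ω k) (hk : 4 ≤ k)
    (hn : k + 4 ≤ Nat.card Ω) {d : G} (hd : k ≤ (fixedBy Ω d).ncard) : d = 1 := by
  obtain ⟨m, rfl⟩ : ∃ m, k = m + 4 := ⟨k - 4, by omega⟩
  obtain ⟨s, hs1, hs⟩ := Set.exists_subset_card_eq (s := fixedBy Ω d) (n := m) (by omega)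
  have h1 := card_sub (G := G) s
  have := (h.sub s hs).sharp (by omega)
    (d := ⟨d, (mem_fixingSubgroup_iff G).2 fun x hx => hs1 hx⟩)
    (le_ncard_fix_sub s _ (by rw [hs]; exact hd))
  exact congrArg Subtype.val this

/-- Hall's theorem for `k ≥ 4`, degree `k + 3`: the group is `(k+1)`-transitive. -/
theorem Hk.tr_succ [Finite G] [Finite Ω] {k : ℕ} (h : Hk G Ω k) (hk : 4 ≤ k)
    (hn : Nat.card Ω = k + 3) : IsMultiplyPretransitive G Ω (k + 1) := by
  classical
  obtain ⟨d, d1, hd⟩ : ∃ d : G, d ≠ 1 ∧ k ≤ (fixedBy Ω d).ncard := by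
    obtain ⟨m, rfl⟩ : ∃ m, k = m + 4 := ⟨k - 4, by omega⟩
    obtain ⟨s, -, hs⟩ := Set.exists_subset_card_eq (s := (Set.univ : Set Ω)) (n := m)
      (by rw [Set.ncard_univ]; omega)
    have h1 := card_sub (G := G) s
    obtain ⟨d, d1, hd⟩ := (h.sub s hs).exists_seven (by omega)
    refine ⟨d, fun e => d1 (Subtype.ext e), ?_⟩
    have h1 : Disjoint s (Subtype.val '' fixedBy (SubMulAction.ofFixingSubgroup G s) d) := by
      rw [Set.disjoint_right]
      rintro _ ⟨x, -, rfl⟩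
      exact x.2
    have h2 := Set.ncard_union_eq h1
    rw [Set.ncard_image_of_injective _ Subtype.val_injective, hs] at h2
    refine le_trans (by omega) (Set.ncard_le_ncard
      (s := s ∪ Subtype.val '' fixedBy (SubMulAction.ofFixingSubgroup G s) d) ?_)
    rintro x (hx | ⟨y, hy, rfl⟩)
    · exact (mem_fixingSubgroup_iff G).1 d.2 x hx
    · exact congrArg Subtype.val hy
  have ho := h.odd d hd
  obtain ⟨s, hs1, hs⟩ := Set.exists_subset_card_eq hd
  obtain ⟨u, hu⟩ : ∃ u : Ω, d • u ≠ u := by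
    by_contra! hc
    exact d1 (h.faith d hc)
  have n1 : d • d • u ≠ d • u := fun e => hu (MulAction.injective d e)
  have n2 : d • d • u ≠ u := fun e =>
    hu (fix_of_odd_of_pair ho (a := u) (b := d • u) (Or.inr rfl) (Or.inl e)).1
  have n3 : d • d • d • u ≠ d • d • u := fun e => n1 (MulAction.injective d e)
  have hc : sᶜ = {u, d • u, d • d • u} := by
    symm
    refine Set.eq_of_subset_of_ncard_le ?_ ?_
    · rintro x (rfl | rfl | rfl) hx
      exacts [hu (hs1 hx), n1 (hs1 hx), n3 (hs1 hx)]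
    · have := Set.ncard_add_ncard_compl s
      rw [Set.ncard_insert_of_notMem (by simp [hu.symm, n2.symm]), Set.ncard_pair n1.symm]
      omega
  have hp : ∀ x, x ∉ s → ∃ j : ℕ, d ^ j • u = x := fun x hx => by
    have : x ∈ sᶜ := hx
    rw [hc] at this
    rcases this with rfl | rfl | rfl
    · exact ⟨0, by simp⟩
    · exact ⟨1, by simp⟩
    · exact ⟨2, by rw [sq, mul_smul]⟩
  refine mt_succ_of_one h.tr (Set.toFinite s).toFinset (by rw [← Set.ncard_eq_toFinset_card, hs])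
    fun a ha b hb => ?_
  simp only [Set.Finite.mem_toFinset] at ha hb ⊢
  obtain ⟨i, rfl⟩ := hp a ha
  obtain ⟨j, rfl⟩ := hp b hb
  refine ⟨d ^ j * (d ^ i)⁻¹, fun x hx => ?_, by rw [mul_smul, inv_smul_smul]⟩
  have e1 := pow_smul_of_fix (hs1 hx) i
  rw [mul_smul, ← e1, inv_smul_smul, pow_smul_of_fix (hs1 hx) j, e1]

end Cfsg.Agent.LW
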