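import Cfsg.Agent.LW.Hall2

/-! Hall's theorem for permutation groups; small tools on alternating groups. -/

set_option autoImplicit false

namespace Cfsg.Agent.LW

open MulAction Cfsg.Agent.H26 Equiv

variable {α : Type*} [Fintype α] [DecidableEq α]

theorem alt_or_top {G : Subgroup (Perm α)} (h : alternatingGroup α ≤ G) :
    G = alternatingGroup α ∨ G = ⊤ := by
  by_cases h1 : G ≤ alternatingGroup α
  · exact Or.inl (le_antisymm h1 h)
  · right
    obtain ⟨g, hg, hg'⟩ := SetLike.not_le_iff_exists.1 h1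
    rw [eq_top_iff]
    intro x _
    by_cases hx : x ∈ alternatingGroup α
    · exact h hx
    · rw [Perm.mem_alternatingGroup] at hg' hx
      have : x * g⁻¹ ∈ alternatingGroup α := by
        rw [Perm.mem_alternatingGroup, map_mul, map_inv, Int.units_ne_iff_eq_neg.1 hg',
          Int.units_ne_iff_eq_neg.1 hx]
        simp
      simpa using G.mul_mem (h this) hg

omit [DecidableEq α] in
theorem hk_of_stab {G : Subgroup (Perm α)} {k : ℕ} (hG : IsMultiplyPretransitive G α k)
    (x : Fin k ↪ α) (hodd : Odd (Nat.card (stabilizer G x))) : Hk G α k := by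
  classical
  refine ⟨fun g hg => Subtype.ext (Equiv.ext hg), hG, fun g hg => ?_⟩
  obtain ⟨s, hs1, hs⟩ := Set.exists_subset_card_eq hg
  let e : Fin k ≃ s := (Finite.equivFinOfCardEq ((Nat.card_coe_set_eq s).trans hs)).symm
  let y : Fin k ↪ α := ⟨fun i => e i, fun i j hij => e.injective (Subtype.ext hij)⟩
  obtain ⟨u, hu⟩ := hG.exists_smul_eq y x
  have h1 : u * g * u⁻¹ ∈ stabilizer G x := by
    rw [mem_stabilizer_iff, ← hu]
    ext i
    have : g • (e i : α) = e i := hs1 (e i).2
    change (u * g * u⁻¹) • u • (e i : α) = u • (e i : α)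
    rw [mul_smul, mul_smul, inv_smul_smul, this]
  rw [← H42.orderOf_conj' u g]
  exact hodd.of_dvd_nat (Subgroup.orderOf_dvd_natCard _ h1)

theorem Hk.ne_top {G : Subgroup (Perm α)} {k : ℕ} (h : Hk G α k) (hn : k + 2 ≤ Fintype.card α) :
    G ≠ ⊤ := by
  rintro rfl
  obtain ⟨a, b, hab⟩ := Fintype.exists_pair_of_one_lt_card (α := α) (by omega)
  have h1 := h.fix_lt (t := ⟨swap a b, trivial⟩) (Subtype.ext (swap_mul_self a b))
    (fun e => hab (swap_eq_one_iff.1 (congrArg Subtype.val e)))
  have h2 : ({a, b} : Set α)ᶜ ⊆ fixedBy α (⟨swap a b, trivial⟩ : (⊤ : Subgroup (Perm α))) :=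
    fun x hx => by
      simp only [Set.mem_compl_iff, Set.mem_insert_iff, Set.mem_singleton_iff, not_or] at hx
      exact swap_apply_of_ne_of_ne hx.1 hx.2
  have h3 := Set.ncard_le_ncard h2
  have h4 := Set.ncard_add_ncard_compl ({a, b} : Set α)
  rw [Set.ncard_pair hab, Nat.card_eq_fintype_card] at h4
  omega

theorem hall (G : Subgroup (Perm α)) (hG : IsMultiplyPretransitive G α 4) (x : Fin 4 ↪ α)
    (hodd : Odd (Nat.card (stabilizer G x))) :
    ((Fintype.card α = 4 ∨ Fintype.card α = 5) ∧ G = ⊤) ∨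
      ((Fintype.card α = 6 ∨ Fintype.card α = 7) ∧ G = alternatingGroup α) ∨
      (Fintype.card α = 11 ∧ Nat.card G = 7920) := by
  have h := hk_of_stab hG x hodd
  have h4 : 4 ≤ Fintype.card α := by simpa using Fintype.card_le_of_embedding x
  have hc := Nat.card_eq_fintype_card (α := α)
  rcases Nat.lt_or_ge (Fintype.card α) 6 with h6 | h6
  · exact Or.inl ⟨by omega, Perm.eq_top_of_isMultiplyPretransitive
      (isMultiplyPretransitive_of_le (n := 4) (by omega) (by omega))⟩
  rcases Nat.lt_or_ge (Fintype.card α) 8 with h8 | h8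
  · refine Or.inr (Or.inl ⟨by omega, (alt_or_top ?_).resolve_right (h.ne_top h6)⟩)
    apply IsMultiplyPretransitive.alternatingGroup_le
    rcases (show Nat.card α = 6 ∨ Nat.card α = 7 by omega) with e | e
    · rw [e]; exact hG
    · rw [e]; exact h.tr_succ le_rfl e
  · have h11 := h.card_eq (by omega)
    refine Or.inr (Or.inr ⟨by omega, ?_⟩)
    obtain ⟨s, -, hs⟩ := Set.exists_subset_card_eq (s := (Set.univ : Set α)) (n := 4)
      (by rw [Set.ncard_univ]; omega)
    have h3 := IsMultiplyPretransitive.index_of_fixingSubgroup_eq s (hs ▸ h.tr)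
    have h5 : fixingSubgroup G s = ⊥ := eq_bot_iff.2 fun g hg => h.sharp (by omega)
      (hs ▸ Set.ncard_le_ncard fun x hx => (mem_fixingSubgroup_iff G).1 hg x hx)
    rw [h5, Subgroup.index_bot, hs, h11] at h3
    rw [h3]; rfl

end Cfsg.Agent.LW
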